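import Groth.Agent.L27.StalkRpush.Nbhd
import Groth.Agent.L27.StrictCover
import Groth.Prelude.Def_EtBaseX
import Mathlib.FieldTheory.IsSepClosed
import Mathlib.AlgebraicGeometry.AffineScheme

/-! # Étale local rings are strictly henselian -/

set_option autoImplicit false
set_option linter.style.haveILetI false
set_option linter.unusedSectionVars false
set_option backward.isDefEq.respectTransparency.types false

universe u

open CategoryTheory CategoryTheory.Limits AlgebraicGeometry Opposite Polynomial IsLocalRing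

namespace Groth.L27.EtStrict

open Groth.L05.Henselization Groth.L27.StalkRpush

section Col

variable (A K : Type u) [CommRing A] [Field K] [Algebra A K]

variable {A K} in
/-- Roots in `K` of monic separable equations over the colimit lift to it. -/
theorem exists_root_of_aeval (f : (Col A K)[X]) (hf : f.Monic) (ω : K)
    (h1 : (f.map (ε A K).toRingHom).eval ω = 0)
    (h2 : (f.derivative.map (ε A K).toRingHom).eval ω ≠ 0) :
    ∃ a, f.IsRoot a ∧ ε A K a = ω := by
  classical
  obtain ⟨Y, hY⟩ := exists_lift_finset ((Finset.range (f.natDegree + 1)).image f.coeff)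
  have hlift : f ∈ Polynomial.lifts (ι Y).toRingHom := by
    rw [Polynomial.lifts_iff_coeff_lifts]
    intro m
    by_cases hm : m ≤ f.natDegree
    · exact hY _ (Finset.mem_image.mpr ⟨m, Finset.mem_range.mpr (by omega), rfl⟩)
    · exact ⟨0, by rw [map_zero, Polynomial.coeff_eq_zero_of_natDegree_lt (by omega)]⟩
  obtain ⟨F, hF, -, hFm⟩ := Polynomial.lifts_and_natDegree_eq_and_monic hlift hf
  let P : StandardEtalePair Y.R :=
    { f := F, monic_f := hFm, g := derivative F, cond := ⟨1, 0, 1, by ring⟩ }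
  letI : Algebra Y.R K := Y.φ.toRingHom.toAlgebra
  haveI : IsScalarTower A Y.R K := ⟨fun a y k => by
    show Y.φ (a • y) * k = a • (Y.φ y * k)
    rw [map_smul, smul_mul_assoc]⟩
  have hε : (ε A K).toRingHom.comp (ι Y).toRingHom = Y.φ.toRingHom := RingHom.ext fun y => ε_ι Y y
  have hev : ∀ G : Y.R[X], aeval ω G = ((G.map (ι Y).toRingHom).map (ε A K).toRingHom).eval ω := by
    intro G
    rw [Polynomial.map_map, hε, Polynomial.eval_map, Polynomial.aeval_def]
    rfl
  have hmap : P.HasMap ω := by
    refine ⟨?_, ?_⟩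
    · show aeval ω F = 0
      rw [hev, hF]
      exact h1
    · show IsUnit (aeval ω (derivative F))
      rw [hev, ← Polynomial.derivative_map, hF, isUnit_iff_ne_zero]
      exact h2
  letI : Algebra A P.Ring := ((algebraMap Y.R P.Ring).comp (algebraMap A Y.R)).toAlgebra
  haveI : IsScalarTower A Y.R P.Ring := ⟨fun a y q => by
    simp only [Algebra.smul_def]
    rw [show (a • y : Y.R) = algebraMap A Y.R a * y from Algebra.smul_def a y, map_mul, mul_assoc]
    rfl⟩
  haveI : Algebra.Etale A P.Ring := Algebra.Etale.comp A Y.R _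
  let ψ : P.Ring →ₐ[A] K := (P.lift ω hmap).restrictScalars A
  let ι₀ : Y.R →ₐ[A] P.Ring := IsScalarTower.toAlgHom A Y.R _
  have hψ : ψ.comp ι₀ = Y.φ := AlgHom.ext fun y => (P.lift ω hmap).commutes y
  obtain ⟨Z, e, g, he, hg⟩ := Obj.exists_hom P.Ring ψ ι₀ hψ
  refine ⟨ι Z (e P.X), ?_, ?_⟩
  · rw [Polynomial.IsRoot, ← hF, Polynomial.eval_map]
    have hcomp : (ι Y).toRingHom = ((ι Z).toRingHom.comp e.toAlgHom.toRingHom).comp (algebraMap Y.R P.Ring) :=
      RingHom.ext fun y => by
        show ι Y y = ι Z (e (algebraMap Y.R P.Ring y))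
        rw [← ι_map g, hg]
        rfl
    rw [hcomp, show ι Z (e P.X) = ((ι Z).toRingHom.comp e.toAlgHom.toRingHom) P.X from rfl,
      ← Polynomial.hom_eval₂, ← Polynomial.aeval_def,
      show aeval P.X F = 0 from (StandardEtalePair.hasMap_X (P := P)).1, map_zero]
  · rw [ε_ι]
    exact (DFunLike.congr_fun he P.X).trans (P.lift_X ω hmap)

theorem isUnit_iff {b : Col A K} : IsUnit b ↔ ε A K b ≠ 0 :=
  ⟨fun h => (h.map (ε A K)).ne_zero, fun h => isUnit_of_isUnit_ε (isUnit_iff_ne_zero.2 h)⟩

theorem isLocalRing : IsLocalRing (Col A K) := by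
  haveI : Nontrivial (Col A K) := (ε A K).toRingHom.domain_nontrivial
  refine IsLocalRing.of_nonunits_add fun a b ha hb => ?_
  simp only [mem_nonunits_iff, isUnit_iff, not_not] at ha hb ⊢
  rw [map_add, ha, hb, add_zero]

theorem strictlyHenselian [IsSepClosed K] : EtCoh.IsStrictlyHenselianLocalRing (Col A K) := by
  haveI := isLocalRing A K
  have hmem : ∀ b : Col A K, b ∈ maximalIdeal (Col A K) ↔ ε A K b = 0 := fun b => by
    rw [IsLocalRing.mem_maximalIdeal, mem_nonunits_iff, isUnit_iff, not_not]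
  refine ⟨{ is_henselian := fun f hf a₀ h1 h2 => ?_ }, ?_⟩
  · have h1' : ((f.map (ε A K).toRingHom).eval (ε A K a₀)) = 0 := by
      rw [Polynomial.eval_map]
      show Polynomial.eval₂ (ε A K).toRingHom ((ε A K).toRingHom a₀) f = 0
      rw [Polynomial.eval₂_at_apply]
      exact (hmem _).1 h1
    have h2' : (f.derivative.map (ε A K).toRingHom).eval (ε A K a₀) ≠ 0 := by
      rw [Polynomial.eval_map]
      show Polynomial.eval₂ (ε A K).toRingHom ((ε A K).toRingHom a₀) f.derivative ≠ 0
      rw [Polynomial.eval₂_at_apply]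
      exact (isUnit_iff A K).1 h2
    obtain ⟨a, ha, hab⟩ := exists_root_of_aeval f hf (ε A K a₀) h1' h2'
    exact ⟨a, ha, (hmem _).2 (by rw [map_sub, hab, sub_self])⟩
  · refine IsSepClosed.of_exists_root _ fun p hp hirr hsep => ?_
    let j : ResidueField (Col A K) →+* K :=
      Ideal.Quotient.lift _ (ε A K).toRingHom fun x hx => (hmem x).1 hx
    have hdeg : (p.map j).degree ≠ 0 := by
      rw [Polynomial.degree_map]
      exact (Polynomial.degree_pos_of_irreducible hirr).ne'
    obtain ⟨ω, hω⟩ := IsSepClosed.exists_root _ hdeg hsep.map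
    obtain ⟨F, hF, -, hFm⟩ := Polynomial.lifts_and_natDegree_eq_and_monic
      (Polynomial.mem_lifts p |>.mpr (Polynomial.map_surjective _ residue_surjective p)) hp
    have hj : j.comp (residue (Col A K)) = (ε A K).toRingHom := RingHom.ext fun x => rfl
    have h1 : (F.map (ε A K).toRingHom).eval ω = 0 := by
      rw [← hj, ← Polynomial.map_map, hF]
      exact hω
    have h2 : (F.derivative.map (ε A K).toRingHom).eval ω ≠ 0 := by
      rw [← Polynomial.derivative_map, ← hj, ← Polynomial.map_map, hF]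
      simpa [Polynomial.aeval_def, Polynomial.eval_map] using
        (hsep.map (f := j)).aeval_derivative_ne_zero (x := ω) (by simpa [Polynomial.aeval_def] using hω)
    obtain ⟨a, ha, -⟩ := exists_root_of_aeval F hFm ω h1 h2
    refine ⟨residue _ a, ?_⟩
    rw [← hF, Polynomial.eval_map, Polynomial.eval₂_at_apply, ha, map_zero]

end Col

section Stalk

variable {S : Scheme.{u}} (B : Type u) [CommRing B] (j : Spec (CommRingCat.of B) ⟶ S) [IsOpenImmersion j]
  (K : Type u) [Field K] [IsSepClosed K] [Algebra B K]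

/-- The map from a member of the system to the étale local ring. -/
noncomputable def leg (X : Obj B K) :
    CommRingCat.of X.R ⟶ EtBase.etaleLocalRing (bPt B j K) :=
  (Scheme.ΓSpecIso (CommRingCat.of X.R)).inv ≫
    (Scheme.pointSmallEtale (bPt B j K)).toPresheafFiber ((nb B j K).obj (op X)) (pt B j K (op X))
      (EtBase.OO S)

theorem leg_w {X Y : Obj B K} (f : X ⟶ Y) :
    CommRingCat.ofHom f.1.toRingHom ≫ leg B j K Y = leg B j K X := by
  have hmap : (EtBase.OO S).map ((nb B j K).map f.op).op =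
      (Spec.map (CommRingCat.ofHom f.1.toRingHom)).appTop := rfl
  rw [leg, leg, ← Category.assoc, Scheme.ΓSpecIso_inv_naturality, Category.assoc, ← hmap]
  congr 1
  have := (Scheme.pointSmallEtale (bPt B j K)).toPresheafFiber_w ((nb B j K).map f.op)
    (pt B j K (op Y)) (EtBase.OO S)
  rw [map_pt B j K f.op] at this
  exact this

/-- The cocone on the system. -/
noncomputable def stalkCocone : Cocone (Obj.diagram (A := B) (K := K)) where
  pt := EtBase.etaleLocalRing (bPt B j K)
  ι :=
    { app := leg B j K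
      naturality := fun _ _ f => (leg_w B j K f).trans (Category.comp_id _).symm }

/-- The comparison map. -/
noncomputable def toStalk : Col B K →+* EtBase.etaleLocalRing (bPt B j K) :=
  (colimit.desc (Obj.diagram (A := B) (K := K)) (stalkCocone B j K)).hom

theorem toStalk_ι (X : Obj B K) (x : X.R) :
    toStalk B j K (ι X x) = leg B j K X x :=
  congr($(colimit.ι_desc (stalkCocone B j K) X).hom x)

theorem bijective_toStalk : Function.Bijective (toStalk B j K) := by
  refine ⟨(injective_iff_map_eq_zero _).2 fun z hz => ?_, fun q => ?_⟩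
  · obtain ⟨X, x, rfl⟩ := ι_surj z
    rw [toStalk_ι, leg, CommRingCat.comp_apply,
      ← map_zero (((Scheme.pointSmallEtale (bPt B j K)).toPresheafFiber ((nb B j K).obj (op X))
        (pt B j K (op X)) (EtBase.OO S)).hom)] at hz
    obtain ⟨W, g, w, hw, hg⟩ :=
      ((Scheme.pointSmallEtale (bPt B j K)).toPresheafFiber_eq_iff' _ _ _ _).1 hz
    obtain ⟨Z, m, hm⟩ := exists_dom B j K W w
    obtain ⟨g', hg'⟩ := exists_map B j K (m ≫ g) (by
      rw [Functor.map_comp, ConcreteCategory.comp_apply, hm, hw])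
    have h2 := congrArg ((EtBase.OO S).map m.op) hg
    rw [map_zero, map_zero, ← CommRingCat.comp_apply, ← Functor.map_comp, ← op_comp, ← hg'] at h2
    have h3 : (Scheme.ΓSpecIso (CommRingCat.of Z.unop.R)).inv (g'.unop.1 x) = 0 := by
      exact (congr($(Scheme.ΓSpecIso_inv_naturality (CommRingCat.ofHom g'.unop.1.toRingHom)).hom x)).trans h2
    have h4 : g'.unop.1 x = 0 :=
      (ConcreteCategory.bijective_of_isIso (Scheme.ΓSpecIso (CommRingCat.of Z.unop.R)).inv).1
        (h3.trans (map_zero _).symm)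
    rw [← ι_map g'.unop x, h4, map_zero]
  · obtain ⟨U, y, t, rfl⟩ := (Scheme.pointSmallEtale (bPt B j K)).toPresheafFiber_jointly_surjective q
    obtain ⟨X, m, hm⟩ := exists_dom B j K U y
    refine ⟨ι X.unop ((Scheme.ΓSpecIso (CommRingCat.of X.unop.R)).hom ((EtBase.OO S).map m.op t)), ?_⟩
    rw [toStalk_ι, leg]
    refine (congrArg ((Scheme.pointSmallEtale (bPt B j K)).toPresheafFiber ((nb B j K).obj X)
      (pt B j K X) (EtBase.OO S)).hom
      (congr($((Scheme.ΓSpecIso (CommRingCat.of X.unop.R)).hom_inv_id).hom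
        ((EtBase.OO S).map m.op t)))).trans ?_
    refine (GrothendieckTopology.Point.toPresheafFiber_w_apply _ m (pt B j K X) (EtBase.OO S) t).trans ?_
    exact congrArg (fun z => (Scheme.pointSmallEtale (bPt B j K)).toPresheafFiber U z (EtBase.OO S) t) hm

theorem strictlyHenselian_chart :
    EtCoh.IsStrictlyHenselianLocalRing (EtBase.etaleLocalRing (bPt B j K)) :=
  StrictCover.strictlyHenselian_of_ringEquiv (RingEquiv.ofBijective _ (bijective_toStalk B j K))
    (strictlyHenselian B K)

end Stalk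

theorem strictlyHenselian_etaleLocalRing {X : Scheme.{u}} {Ω : Type u} [Field Ω] [IsSepClosed Ω]
    (ξ : Spec (CommRingCat.of Ω) ⟶ X) :
    EtCoh.IsStrictlyHenselianLocalRing (EtBase.etaleLocalRing ξ) := by
  obtain ⟨_, ⟨V, hV, rfl⟩, hxV, -⟩ := X.isBasis_affineOpens.exists_subset_of_mem_open
    (Set.mem_univ (ξ default)) isOpen_univ
  have hr : Set.range ξ ⊆ Set.range hV.fromSpec := by
    rintro _ ⟨a, rfl⟩
    rw [hV.range_fromSpec, Subsingleton.elim (α := Spec (CommRingCat.of Ω)) a default]
    exact hxV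
  obtain ⟨φ, hφ⟩ := Spec.map_surjective (IsOpenImmersion.lift hV.fromSpec ξ hr)
  letI : Algebra Γ(X, V) Ω := φ.hom.toAlgebra
  have hξ : ξ = bPt Γ(X, V) hV.fromSpec Ω := by
    rw [← IsOpenImmersion.lift_fac hV.fromSpec ξ hr, ← hφ]
    rfl
  subst hξ
  exact strictlyHenselian_chart Γ(X, V) hV.fromSpec Ω

end Groth.L27.EtStrict
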