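import Groth.Agent.L05.Henselization.EtaleLike
import Groth.Agent.S0601
import Groth.Agent.S0602
import Groth.Agent.L21.CurvFib.EtaleField
import Mathlib.AlgebraicGeometry.Morphisms.Etale
import Mathlib.AlgebraicGeometry.Noetherian
import Mathlib.RingTheory.Unramified.LocalRing
import Mathlib.RingTheory.Localization.AtPrime.Basic

/-! Local properties along etale morphisms of locally Noetherian schemes. -/

set_option autoImplicit false
set_option linter.style.haveILetI false
universe u

open CategoryTheory AlgebraicGeometry IsLocalRing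

namespace Groth.L27.EtLocal

theorem hasReducedPointFibres_of_formallyUnramified (A B : Type u) [CommRing A] [CommRing B]
    [Algebra A B] [Algebra.EssFiniteType A B] [Algebra.FormallyUnramified A B] :
    Groth.L05.Henselization.HasReducedPointFibres A B := by
  intro q _ x hx
  haveI : q.LiesOver (q.comap (algebraMap A B)) := ⟨rfl⟩
  letI := Localization.AtPrime.algebraOfLiesOver (q.comap (algebraMap A B)) q
  haveI : Algebra.FormallyUnramified B (Localization.AtPrime q) :=
    Algebra.FormallyUnramified.of_isLocalization q.primeCompl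
  haveI : Algebra.IsUnramifiedAt A q := Algebra.FormallyUnramified.comp A B (Localization.AtPrime q)
  have h := ((Algebra.isUnramifiedAt_iff_map_eq A (q.comap (algebraMap A B)) q).mp inferInstance).2
  have hx' : algebraMap B (Localization.AtPrime q) x ∈
      ((q.comap (algebraMap A B)).map (algebraMap A B)).map
        (algebraMap B (Localization.AtPrime q)) := by
    rw [Ideal.map_map, ← IsScalarTower.algebraMap_eq, h]
    exact (IsLocalization.AtPrime.to_map_mem_maximal_iff _ q x).mpr hx
  obtain ⟨t, ht, htx⟩ := (IsLocalization.algebraMap_mem_map_algebraMap_iff q.primeCompl _ _ x).mp hx'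
  exact ⟨t, ht, htx⟩

theorem isDomain_isIntegrallyClosed_of_ringEquiv {A B : Type u} [CommRing A] [CommRing B] (e : A ≃+* B)
    (h : IsDomain A ∧ IsIntegrallyClosed A) : IsDomain B ∧ IsIntegrallyClosed B := by
  obtain ⟨_, _⟩ := h
  exact ⟨MulEquiv.isDomain A e.symm.toMulEquiv, IsIntegrallyClosed.of_equiv e⟩

theorem normal_iff_forall_prime (A : Type u) [CommRing A] [IsLocalRing A] :
    (IsDomain A ∧ IsIntegrallyClosed A) ↔ ∀ (p : Ideal A) [p.IsPrime],
      IsDomain (Localization.AtPrime p) ∧ IsIntegrallyClosed (Localization.AtPrime p) := by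
  constructor
  · rintro ⟨_, _⟩ p _
    exact ⟨IsLocalization.isDomain_localization p.primeCompl_le_nonZeroDivisors,
      isIntegrallyClosed_of_isLocalization _ _ p.primeCompl_le_nonZeroDivisors⟩
  · intro h
    refine isDomain_isIntegrallyClosed_of_ringEquiv ?_ (h (maximalIdeal A))
    exact (IsLocalization.atUnits A (maximalIdeal A).primeCompl
      (S := Localization.AtPrime (maximalIdeal A))
      fun x hx => not_not.mp hx).symm.toRingEquiv

section Ring

variable (A B : Type u) [CommRing A] [IsLocalRing A] [IsNoetherianRing A] [CommRing B] [IsLocalRing B]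
  [IsNoetherianRing B] [Algebra A B] [Module.FaithfullyFlat A B] [Algebra.EssFiniteType A B]
  [Algebra.FormallyUnramified A B]

omit [IsLocalRing A] [IsLocalRing B] in
theorem isReduced_iff : _root_.IsReduced B ↔ _root_.IsReduced A := by
  have h := hasReducedPointFibres_of_formallyUnramified A B
  rw [Groth.Agent.S0602.result, Groth.Agent.S0602.result, Groth.L05.Henselization.hasRk_iff h,
    Groth.L05.Henselization.hasSk_iff h]

theorem normal_iff : (IsDomain B ∧ IsIntegrallyClosed B) ↔ (IsDomain A ∧ IsIntegrallyClosed A) := by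
  have h := hasReducedPointFibres_of_formallyUnramified A B
  rw [normal_iff_forall_prime B, normal_iff_forall_prime A, Groth.Agent.S0601.result,
    Groth.Agent.S0601.result, Groth.L05.Henselization.hasRk_iff h, Groth.L05.Henselization.hasSk_iff h]

end Ring

section Scheme

variable {X Y : Scheme.{u}} (f : X ⟶ Y) [Etale f] [IsLocallyNoetherian Y] (x : X)

include f in
omit x in
theorem isLocallyNoetherian_source : IsLocallyNoetherian X :=
  LocallyOfFiniteType.isLocallyNoetherian f

omit [IsLocallyNoetherian Y] in
theorem stalk_facts : letI := (f.stalkMap x).hom.toAlgebra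
    Module.FaithfullyFlat (Y.presheaf.stalk (f x)) (X.presheaf.stalk x) ∧
      Algebra.EssFiniteType (Y.presheaf.stalk (f x)) (X.presheaf.stalk x) ∧
      Algebra.FormallyUnramified (Y.presheaf.stalk (f x)) (X.presheaf.stalk x) ∧
      (maximalIdeal (Y.presheaf.stalk (f x))).map (algebraMap _ (X.presheaf.stalk x)) =
        maximalIdeal (X.presheaf.stalk x) := by
  letI := (f.stalkMap x).hom.toAlgebra
  haveI : IsLocalHom (algebraMap (Y.presheaf.stalk (f x)) (X.presheaf.stalk x)) :=
    inferInstanceAs <| IsLocalHom (f.stalkMap x).hom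
  haveI : Module.Flat (Y.presheaf.stalk (f x)) (X.presheaf.stalk x) := Flat.stalkMap f x
  exact ⟨Module.FaithfullyFlat.of_flat_of_isLocalHom, LocallyOfFiniteType.stalkMap f x,
    FormallyUnramified.stalkMap f x, Groth.L21.CurvFib.map_maximalIdeal_stalkMap_of_etale f x⟩

theorem ringKrullDim_stalk_eq :
    ringKrullDim (X.presheaf.stalk x) = ringKrullDim (Y.presheaf.stalk (f x)) := by
  haveI := isLocallyNoetherian_source f
  letI := (f.stalkMap x).hom.toAlgebra
  obtain ⟨_, -, -, hm⟩ := stalk_facts f x
  exact Groth.L05.Henselization.ringKrullDim_eq_of_map_maximalIdeal _ _ hm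

theorem isRegularLocalRing_stalk_iff :
    IsRegularLocalRing (X.presheaf.stalk x) ↔ IsRegularLocalRing (Y.presheaf.stalk (f x)) := by
  haveI := isLocallyNoetherian_source f
  letI := (f.stalkMap x).hom.toAlgebra
  obtain ⟨_, -, -, hm⟩ := stalk_facts f x
  exact (Groth.L05.Henselization.isRegularLocalRing_iff_of_map_maximalIdeal _ _ hm).symm

theorem isReduced_stalk_iff :
    _root_.IsReduced (X.presheaf.stalk x) ↔ _root_.IsReduced (Y.presheaf.stalk (f x)) := by
  haveI := isLocallyNoetherian_source f
  letI := (f.stalkMap x).hom.toAlgebra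
  obtain ⟨_, _, _, -⟩ := stalk_facts f x
  exact isReduced_iff _ _

theorem normal_stalk_iff :
    (IsDomain (X.presheaf.stalk x) ∧ IsIntegrallyClosed (X.presheaf.stalk x)) ↔
      (IsDomain (Y.presheaf.stalk (f x)) ∧ IsIntegrallyClosed (Y.presheaf.stalk (f x))) := by
  haveI := isLocallyNoetherian_source f
  letI := (f.stalkMap x).hom.toAlgebra
  obtain ⟨_, _, _, -⟩ := stalk_facts f x
  exact normal_iff _ _

end Scheme

end Groth.L27.EtLocal
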